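import Cfsg.Agent.H910.PU.Fac
import Cfsg.Agent.Lib.CoprimeHyperplane

/-!
# TI Sylow subgroups and the `p'`-core (helper910, for S5258)

* `cent_core` : a TI Sylow `p`-subgroup which is not of rank one centralizes every normal `p'`-subgroup;
* `Fac.of_normal` : from a normal subgroup `L` containing `P` to the whole group;
* `fac_of_core` : `L` normal in `G/N`, `P N/N ≤ L` and all Sylow `p`-subgroups of `L` satisfy `Fac`.
-/

set_option autoImplicit false

namespace Cfsg.Agent.H910.PU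

open Subgroup

variable {G : Type*} [Group G]

/-- `P` is TI -/
def TI {p : ℕ} (P : Sylow p G) : Prop :=
  ∀ g : G, g ∉ Subgroup.normalizer ((P : Subgroup G) : Set G) → ∀ x ∈ (P : Subgroup G), g * x * g⁻¹ ∈ (P : Subgroup G) →
    x = 1

theorem eq_one_of_coprime [Finite G] {p : ℕ} {P N : Subgroup G} (hP : IsPGroup p P)
    (hN : (Nat.card N).Coprime p) {x : G} (hx : x ∈ P) (hxN : x ∈ N) : x = 1 := by
  obtain ⟨k, hk⟩ := hP ⟨x, hx⟩
  have h1 : x ^ p ^ k = 1 := congrArg Subtype.val hk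
  have h2 : orderOf x ∣ Nat.card N := by
    have := orderOf_dvd_natCard (⟨x, hxN⟩ : N)
    rwa [Subgroup.orderOf_mk] at this
  have h3 : orderOf x ∣ p ^ k := orderOf_dvd_of_pow_eq_one h1
  have h4 : orderOf x = 1 := Nat.eq_one_of_dvd_coprimes (Nat.Coprime.pow_right k hN) h2 h3
  exact orderOf_eq_one_iff.1 h4

/-- A TI Sylow subgroup of rank at least two centralizes the `p'`-core. -/
theorem cent_core [Finite G] {p : ℕ} [hp : Fact p.Prime] (P : Sylow p G) (hTI : TI P) (A : Subgroup G)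
    (hA : Cfsg.IsElementaryAbelian p A) (hAP : A ≤ P) (hA2 : p < Nat.card A) (N : Subgroup G) [hNn : N.Normal]
    (hN : (Nat.card N).Coprime p) : ∀ n ∈ N, ∀ x ∈ (P : Subgroup G), n * x = x * n := by
  have hA1 : A ≠ ⊥ := by
    rintro rfl
    rw [Subgroup.card_bot] at hA2
    exact absurd hA2 (not_lt.2 hp.out.one_lt.le)
  have h1 := Cfsg.Agent.Lib.CoprimeHyperplane.le_iSup_hyperplane A N hA hA1 hN
    (by rw [Subgroup.normalizer_eq_top_iff.2 hNn]; exact le_top)
  have h2 : N ≤ Subgroup.centralizer ((P : Subgroup G) : Set G) := by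
    rw [h1]
    refine iSup_le ?_
    rintro ⟨B, hBA, hB⟩ n ⟨hnN, hnB⟩
    have hB1 : B ≠ ⊥ := by
      rintro rfl
      rw [Subgroup.relIndex_bot_left] at hB
      omega
    obtain ⟨⟨b, hb⟩, hb1⟩ := Subgroup.ne_bot_iff_exists_ne_one.1 hB1
    have hb1' : b ≠ 1 := fun h => hb1 (Subtype.ext h)
    have hbc : n * b * n⁻¹ = b := by
      rw [mul_inv_eq_iff_eq_mul]
      exact (Subgroup.mem_centralizer_iff.1 hnB b hb).symm
    have hn : n ∈ Subgroup.normalizer ((P : Subgroup G) : Set G) := by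
      by_contra hcon
      exact hb1' (hTI n hcon b (hAP (hBA hb)) (by rw [hbc]; exact hAP (hBA hb)))
    rw [Subgroup.mem_centralizer_iff]
    intro x hx
    have h3 : n * x * n⁻¹ ∈ (P : Subgroup G) := (Subgroup.mem_normalizer_iff.1 hn x).1 hx
    have h4 : n * x * n⁻¹ * x⁻¹ ∈ (P : Subgroup G) := mul_mem h3 (inv_mem hx)
    have h5 : n * x * n⁻¹ * x⁻¹ ∈ N := by
      have e : n * x * n⁻¹ * x⁻¹ = n * (x * n⁻¹ * x⁻¹) := by group
      rw [e]
      exact N.mul_mem hnN (hNn.conj_mem _ (N.inv_mem hnN) x)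
    have h6 := eq_one_of_coprime P.isPGroup' hN h4 h5
    rw [mul_inv_eq_one, mul_inv_eq_iff_eq_mul] at h6
    exact h6.symm
  intro n hn x hx
  exact (Subgroup.mem_centralizer_iff.1 (h2 hn) x hx).symm

/-- From a normal subgroup containing `P` to the whole group. -/
theorem Fac.of_normal [Finite G] {p : ℕ} [Fact p.Prime] (P : Sylow p G) (L : Subgroup G) [hL : L.Normal]
    (hPL : (P : Subgroup G) ≤ L) (h : ∀ Q : Sylow p L, Fac (Q : Subgroup L)) : Fac (P : Subgroup G) := by
  have h1 := h (P.subtype hPL)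
  have h2 : ((P.subtype hPL : Sylow p L) : Subgroup L).map L.subtype = P := by
    rw [Sylow.coe_subtype, Subgroup.subgroupOf_map_subtype, inf_eq_left.2 hPL]
  rw [← h2]
  refine Fac.map L.subtype h1 fun g => ?_
  rw [h2]
  have hgP : ((g • P : Sylow p G) : Subgroup G) ≤ L := by
    rintro _ ⟨x, hx, rfl⟩
    exact hL.conj_mem _ (hPL hx) g
  obtain ⟨l, hl⟩ := MulAction.exists_smul_eq L (P.subtype hPL) ((g • P : Sylow p G).subtype hgP)
  refine ⟨l, ?_⟩
  have h3 : ((l • P.subtype hPL : Sylow p L) : Subgroup L) = cj l ((P.subtype hPL : Sylow p L) : Subgroup L) := rfl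
  have h4 : (((g • P : Sylow p G).subtype hgP : Sylow p L) : Subgroup L).map L.subtype = cj g (P : Subgroup G) := by
    rw [Sylow.coe_subtype, Subgroup.subgroupOf_map_subtype, inf_eq_left.2 hgP]
    rfl
  rw [← h4, ← hl, h3, cj_map, h2]

/-- The facts on a normal subgroup of a quotient by a `p'`-group. -/
theorem fac_of_core [Finite G] {p : ℕ} [hp : Fact p.Prime] (P : Sylow p G) (N : Subgroup G) [hNn : N.Normal]
    (hN : (Nat.card N).Coprime p) (hc : ∀ n ∈ N, ∀ x ∈ (P : Subgroup G), n * x = x * n) (L : Subgroup (G ⧸ N))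
    [L.Normal] (hPL : (P : Subgroup G).map (QuotientGroup.mk' N) ≤ L)
    (h : ∀ Q : Sylow p L, Fac (Q : Subgroup L)) : Fac (P : Subgroup G) := by
  have h1 : Fac ((P : Subgroup G).map (QuotientGroup.mk' N)) :=
    Fac.of_normal (P.mapSurjective (QuotientGroup.mk'_surjective N)) L hPL h
  refine Fac.lift (QuotientGroup.mk' N) h1 (fun x hx hx1 => ?_) fun g hg => ?_
  · rw [QuotientGroup.mk'_apply, QuotientGroup.eq_one_iff] at hx1
    exact eq_one_of_coprime P.isPGroup' hN hx hx1
  · -- `g` normalizes `P N`, and `P` is characteristic in `P N = P × N`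
    have key : ∀ g : G, cj ((QuotientGroup.mk' N) g) ((P : Subgroup G).map (QuotientGroup.mk' N)) =
        (P : Subgroup G).map (QuotientGroup.mk' N) → cj g (P : Subgroup G) ≤ P := by
      intro g hg
      rintro _ ⟨x, hx, rfl⟩
      show g * x * g⁻¹ ∈ (P : Subgroup G)
      have h2 : (QuotientGroup.mk' N) (g * x * g⁻¹) ∈ (P : Subgroup G).map (QuotientGroup.mk' N) := by
        rw [← hg, ← cj_map]
        exact ⟨_, mem_cj_of hx, rfl⟩
      obtain ⟨y, hy, h3⟩ := h2
      have h4 : y⁻¹ * (g * x * g⁻¹) ∈ N := by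
        rw [← QuotientGroup.eq_one_iff, QuotientGroup.mk_mul, QuotientGroup.mk_inv]
        rw [QuotientGroup.mk'_apply, QuotientGroup.mk'_apply] at h3
        rw [h3, inv_mul_cancel]
      set n := y⁻¹ * (g * x * g⁻¹) with hn
      have h5 : g * x * g⁻¹ = y * n := by rw [hn]; group
      obtain ⟨k, hk⟩ := P.isPGroup' ⟨x, hx⟩
      obtain ⟨m, hm⟩ := P.isPGroup' ⟨y, hy⟩
      have hk' : x ^ p ^ k = 1 := congrArg Subtype.val hk
      have hm' : y ^ p ^ m = 1 := congrArg Subtype.val hm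
      have hcomm : Commute y n := (hc n h4 y hy).symm
      have h6 : (y * n) ^ (p ^ k * p ^ m) = 1 := by
        rw [← h5, conj_pow, pow_mul, hk', one_pow, mul_one, mul_inv_cancel]
      have h7 : n ^ (p ^ k * p ^ m) = 1 := by
        rw [hcomm.mul_pow, mul_comm (p ^ k), pow_mul y, hm', one_pow, one_mul] at h6
        rw [mul_comm]
        exact h6
      have h8 : n = 1 := by
        have h9 : orderOf n ∣ p ^ (k + m) := orderOf_dvd_of_pow_eq_one (by rw [pow_add]; exact h7)
        have h10 : orderOf n ∣ Nat.card N := by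
          have := orderOf_dvd_natCard (⟨n, h4⟩ : N)
          rwa [Subgroup.orderOf_mk] at this
        exact orderOf_eq_one_iff.1 (Nat.eq_one_of_dvd_coprimes (Nat.Coprime.pow_right (k + m) hN) h10 h9)
      rw [h5, h8, mul_one]
      exact hy
    have h2 := key g hg
    have hg' : cj ((QuotientGroup.mk' N) g⁻¹) ((P : Subgroup G).map (QuotientGroup.mk' N)) =
        (P : Subgroup G).map (QuotientGroup.mk' N) := by
      apply cj_inj (g := (QuotientGroup.mk' N) g)
      rw [cj_cj, ← map_mul, mul_inv_cancel, map_one, cj_one, hg]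
    have h3 := key g⁻¹ hg'
    refine le_antisymm h2 fun x hx => ?_
    rw [mem_cj]
    have h4 := h3 (mem_cj_of (g := g⁻¹) hx)
    rwa [inv_inv] at h4

end Cfsg.Agent.H910.PU
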