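import Mathlib
import Cfsg.Agent.H664.R1.Split

/-!
# Rank one facts: Sylow subgroups as points (helper910, for S5258, `StU3`)

* `cj g P` : the conjugate `g P g⁻¹`;
* `Opp P P'` : there are `x ∈ Z(P)`, `y ∈ Z(P')` such that `x y x` interchanges `P` and `P'`;
* `Fac P` : `P` is transitive on its other conjugates, which are all opposite to `P`;
* `Fac.of_split` : split BN pairs of rank one;
* `Fac.map` : overgroups, isomorphisms; `Fac.lift` : preimages;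
* `Fac.sylow` : the statement for Sylow subgroups.
-/

set_option autoImplicit false

namespace Cfsg.Agent.H910.PU

open Subgroup

/-- `g P g⁻¹` -/
def cj {G : Type*} [Group G] (g : G) (P : Subgroup G) : Subgroup G := P.map (MulAut.conj g).toMonoidHom

section

variable {G : Type*} [Group G]

theorem mem_cj {g x : G} {P : Subgroup G} : x ∈ cj g P ↔ g⁻¹ * x * g ∈ P := by
  constructor
  · rintro ⟨y, hy, rfl⟩
    have e : g⁻¹ * (MulAut.conj g).toMonoidHom y * g = y := by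
      show g⁻¹ * (g * y * g⁻¹) * g = y
      group
    rwa [e]
  · intro h
    exact ⟨_, h, by show g * (g⁻¹ * x * g) * g⁻¹ = x; group⟩

theorem mem_cj_of {g x : G} {P : Subgroup G} (h : x ∈ P) : g * x * g⁻¹ ∈ cj g P := ⟨x, h, rfl⟩

theorem cj_cj (g h : G) (P : Subgroup G) : cj g (cj h P) = cj (g * h) P := by
  ext x
  simp only [mem_cj]
  have e : h⁻¹ * (g⁻¹ * x * g) * h = (g * h)⁻¹ * x * (g * h) := by group
  rw [e]

theorem cj_one (P : Subgroup G) : cj 1 P = P := by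
  ext x
  simp [mem_cj]

theorem cj_inj {g : G} {P Q : Subgroup G} (h : cj g P = cj g Q) : P = Q := by
  have h1 := congrArg (cj g⁻¹) h
  rwa [cj_cj, cj_cj, inv_mul_cancel, cj_one, cj_one] at h1

theorem cj_eq_iff {g h : G} {P : Subgroup G} : cj g P = cj h P ↔ cj (h⁻¹ * g) P = P := by
  constructor
  · intro e
    rw [← cj_cj, e, cj_cj, inv_mul_cancel, cj_one]
  · intro e
    conv_rhs => rw [← e]
    rw [cj_cj, mul_inv_cancel_left]

theorem cj_of_mem {g : G} {P : Subgroup G} (h : g ∈ P) : cj g P = P := by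
  ext x
  rw [mem_cj]
  constructor
  · intro hx
    have h1 := P.mul_mem (P.mul_mem h hx) (P.inv_mem h)
    have e : g * (g⁻¹ * x * g) * g⁻¹ = x := by group
    rwa [e] at h1
  · intro hx
    exact P.mul_mem (P.mul_mem (P.inv_mem h) hx) h

theorem cj_map {H : Type*} [Group H] (f : G →* H) (g : G) (P : Subgroup G) :
    (cj g P).map f = cj (f g) (P.map f) := by
  ext x
  constructor
  · rintro ⟨_, ⟨y, hy, rfl⟩, rfl⟩
    exact ⟨f y, ⟨y, hy, rfl⟩, by simp⟩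
  · rintro ⟨_, ⟨y, hy, rfl⟩, rfl⟩
    exact ⟨g * y * g⁻¹, mem_cj_of hy, by simp⟩

/-- `P` and `P'` are opposite. -/
def Opp (P P' : Subgroup G) : Prop :=
  ∃ x ∈ P, ∃ y ∈ P', (∀ z ∈ P, x * z = z * x) ∧ (∀ z ∈ P', y * z = z * y) ∧
    cj (x * y * x) P = P' ∧ cj (x * y * x) P' = P

/-- The rank one facts. -/
def Fac (P : Subgroup G) : Prop :=
  ∀ g : G, cj g P ≠ P → (∀ h : G, cj h P ≠ P → ∃ x ∈ P, cj x (cj g P) = cj h P) ∧ Opp P (cj g P)

theorem Opp.conj {P P' : Subgroup G} (h : Opp P P') (g : G) : Opp (cj g P) (PU.cj g P') := by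
  obtain ⟨x, hx, y, hy, h1, h2, h3, h4⟩ := h
  refine ⟨g * x * g⁻¹, mem_cj_of hx, g * y * g⁻¹, mem_cj_of hy, ?_, ?_, ?_, ?_⟩
  · rintro _ ⟨z, hz, rfl⟩
    show g * x * g⁻¹ * (g * z * g⁻¹) = g * z * g⁻¹ * (g * x * g⁻¹)
    have e1 : g * x * g⁻¹ * (g * z * g⁻¹) = g * (x * z) * g⁻¹ := by group
    rw [e1, h1 z hz]
    group
  · rintro _ ⟨z, hz, rfl⟩
    show g * y * g⁻¹ * (g * z * g⁻¹) = g * z * g⁻¹ * (g * y * g⁻¹)
    have e1 : g * y * g⁻¹ * (g * z * g⁻¹) = g * (y * z) * g⁻¹ := by group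
    rw [e1, h2 z hz]
    group
  · have e : g * x * g⁻¹ * (g * y * g⁻¹) * (g * x * g⁻¹) = g * (x * y * x) * g⁻¹ := by group
    rw [e, cj_cj, inv_mul_cancel_right, ← cj_cj, h3]
  · have e : g * x * g⁻¹ * (g * y * g⁻¹) * (g * x * g⁻¹) = g * (x * y * x) * g⁻¹ := by group
    rw [e, cj_cj, inv_mul_cancel_right, ← cj_cj, h4]

/-- The facts for one conjugate give them for all. -/
theorem Fac.conj {P : Subgroup G} (h : Fac P) (k : G) : Fac (cj k P) := by
  intro g hg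
  have e : ∀ g : G, PU.cj g (PU.cj k P) = PU.cj k (PU.cj (k⁻¹ * g * k) P) := by
    intro g
    rw [cj_cj, cj_cj]
    congr 1
    group
  have hg' : PU.cj (k⁻¹ * g * k) P ≠ P := by
    intro h1
    apply hg
    rw [e, h1]
  obtain ⟨h1, h2⟩ := h _ hg'
  refine ⟨fun h' hh' => ?_, ?_⟩
  · have hh : PU.cj (k⁻¹ * h' * k) P ≠ P := by
      intro h3
      apply hh'
      rw [e, h3]
    obtain ⟨x, hx, h3⟩ := h1 _ hh
    refine ⟨k * x * k⁻¹, mem_cj_of hx, ?_⟩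
    rw [e g, e h', ← h3, cj_cj, inv_mul_cancel_right, ← cj_cj]
  · rw [e]
    exact h2.conj k

/-- Split BN pairs of rank one. -/
theorem Fac.of_split {G : Type*} [Group G] (D : Cfsg.Agent.H664.R1.Split G) {x y : G} (hx : x ∈ D.U)
    (hxc : ∀ z ∈ D.U, x * z = z * x) (hy : y ∈ D.U) (hyc : ∀ z ∈ D.U, y * z = z * y) (hw : D.w * D.w ∈ D.B)
    (h : D.w⁻¹ * (x * (D.w * y * D.w⁻¹) * x) ∈ D.T) : Fac D.U := by
  have hB : ∀ b ∈ D.B, PU.cj b D.U = D.U := by
    intro b hb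
    ext z
    rw [mem_cj]
    constructor
    · intro hz
      have h1 := D.nU b hb _ hz
      have e : b * (b⁻¹ * z * b) * b⁻¹ = z := by group
      rwa [e] at h1
    · intro hz
      exact D.nU' hb hz
  have hdec : ∀ g : G, PU.cj g D.U ≠ D.U → ∃ u ∈ D.U, PU.cj g D.U = PU.cj u (PU.cj D.w D.U) := by
    intro g hg
    have hgB : g ∉ D.B := fun hgB => hg (hB g hgB)
    obtain ⟨b, hb, c, hc, rfl⟩ := D.big g hgB
    obtain ⟨u, hu, t, ht, rfl⟩ := D.dec b hb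
    refine ⟨u, hu, ?_⟩
    have e : u * t * D.w * c = u * D.w * (D.w⁻¹ * t * D.w * c) := by group
    rw [e, ← cj_cj (u * D.w), hB _ (D.B.mul_mem (D.TB (D.wT t ht)) hc), cj_cj]
  have hopp : Opp D.U (PU.cj D.w D.U) := by
    refine ⟨x, hx, D.w * y * D.w⁻¹, mem_cj_of hy, hxc, ?_, ?_, ?_⟩
    · rintro _ ⟨z, hz, rfl⟩
      show D.w * y * D.w⁻¹ * (D.w * z * D.w⁻¹) = D.w * z * D.w⁻¹ * (D.w * y * D.w⁻¹)
      have e1 : D.w * y * D.w⁻¹ * (D.w * z * D.w⁻¹) = D.w * (y * z) * D.w⁻¹ := by group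
      rw [e1, hyc z hz]
      group
    · have e : x * (D.w * y * D.w⁻¹) * x = D.w * (D.w⁻¹ * (x * (D.w * y * D.w⁻¹) * x)) := by group
      rw [e, ← cj_cj, hB _ (D.TB h)]
    · have e : x * (D.w * y * D.w⁻¹) * x = D.w * (D.w⁻¹ * (x * (D.w * y * D.w⁻¹) * x)) := by group
      set t := D.w⁻¹ * (x * (D.w * y * D.w⁻¹) * x) with ht
      have e2 : D.w * t * D.w = D.w * t * D.w⁻¹ * (D.w * D.w) := by group
      rw [e, cj_cj, e2]
      exact hB _ (D.B.mul_mem (D.TB (D.wT' t h)) hw)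
  intro g hg
  obtain ⟨u, hu, h1⟩ := hdec g hg
  refine ⟨fun k hk => ?_, ?_⟩
  · obtain ⟨v, hv, h2⟩ := hdec k hk
    refine ⟨v * u⁻¹, D.U.mul_mem hv (D.U.inv_mem hu), ?_⟩
    rw [h1, h2, cj_cj, inv_mul_cancel_right]
  · rw [h1]
    have h2 := hopp.conj u
    rwa [cj_of_mem hu] at h2

end

/-- Overgroups and isomorphisms. -/
theorem Fac.map {L G : Type*} [Group L] [Group G] (f : L →* G) {P : Subgroup L} (h : Fac P)
    (hf : ∀ g : G, ∃ l : L, cj g (P.map f) = cj (f l) (P.map f)) : Fac (P.map f) := by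
  intro g hg
  obtain ⟨l, hl⟩ := hf g
  have hl' : PU.cj l P ≠ P := by
    intro h1
    apply hg
    rw [hl, ← cj_map, h1]
  obtain ⟨h1, x, hx, y, hy, hxc, hyc, h2, h3⟩ := h l hl'
  refine ⟨fun k hk => ?_, ?_⟩
  · obtain ⟨m, hm⟩ := hf k
    have hm' : PU.cj m P ≠ P := by
      intro h1
      apply hk
      rw [hm, ← cj_map, h1]
    obtain ⟨z, hz, h4⟩ := h1 m hm'
    refine ⟨f z, ⟨z, hz, rfl⟩, ?_⟩
    rw [hl, hm, ← cj_map, ← cj_map, ← cj_map, h4]
  · rw [hl, ← cj_map]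
    refine ⟨f x, ⟨x, hx, rfl⟩, f y, ⟨y, hy, rfl⟩, ?_, ?_, ?_, ?_⟩
    · rintro _ ⟨z, hz, rfl⟩
      rw [← map_mul, ← map_mul, hxc z hz]
    · rintro _ ⟨z, hz, rfl⟩
      rw [← map_mul, ← map_mul, hyc z hz]
    · rw [← map_mul, ← map_mul, ← cj_map, h2]
    · rw [← map_mul, ← map_mul, ← cj_map, h3]

/-- Preimages. -/
theorem Fac.lift {G G' : Type*} [Group G] [Group G'] (π : G →* G') {P : Subgroup G}
    (h : Fac (P.map π)) (hd : ∀ x ∈ P, π x = 1 → x = 1)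
    (hn : ∀ g : G, cj (π g) (P.map π) = P.map π → cj g P = P) : Fac P := by
  intro g hg
  have hg' : PU.cj (π g) (P.map π) ≠ P.map π := fun h1 => hg (hn g h1)
  obtain ⟨h1, h2⟩ := h _ hg'
  refine ⟨fun k hk => ?_, ?_⟩
  · obtain ⟨_, ⟨x, hx, rfl⟩, h3⟩ := h1 (π k) fun h1 => hk (hn k h1)
    refine ⟨x, hx, ?_⟩
    rw [cj_cj, cj_eq_iff]
    apply hn
    rw [cj_cj, ← map_mul, cj_eq_iff, ← map_inv, ← map_mul] at h3
    exact h3
  · obtain ⟨_, ⟨x, hx, rfl⟩, y', hy', hxc, hyc, h3, h4⟩ := h2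
    rw [← cj_map] at hy' hyc
    obtain ⟨y, hy, rfl⟩ := hy'
    refine ⟨x, hx, y, hy, ?_, ?_, ?_, ?_⟩
    · intro z hz
      have h5 := hxc _ ⟨z, hz, rfl⟩
      have h6 := hd (x * z * (z * x)⁻¹) (P.mul_mem (P.mul_mem hx hz) (P.inv_mem (P.mul_mem hz hx)))
        (by rw [map_mul, map_inv, map_mul, map_mul, h5, mul_inv_cancel])
      exact mul_inv_eq_one.1 h6
    · intro z hz
      have h5 := hyc _ ⟨z, hz, rfl⟩
      have h7 : y * z * (z * y)⁻¹ ∈ PU.cj g P :=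
        (PU.cj g P).mul_mem ((PU.cj g P).mul_mem hy hz) ((PU.cj g P).inv_mem ((PU.cj g P).mul_mem hz hy))
      have h6 := hd _ (mem_cj.1 h7) (by
        rw [map_mul, map_mul, map_mul, map_inv π (z * y), map_mul, map_mul π z, h5, mul_inv_cancel, mul_one, ← map_mul,
          inv_mul_cancel, map_one])
      have h8 : y * z * (z * y)⁻¹ = 1 := by
        have h9 := congrArg (fun t => g * t * g⁻¹) h6
        simpa [mul_assoc] using h9
      exact mul_inv_eq_one.1 h8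
    · rw [cj_eq_iff]
      apply hn
      rw [map_mul, map_inv, ← cj_eq_iff, map_mul, map_mul]
      exact h3
    · rw [cj_cj]
      apply hn
      rw [map_mul, ← cj_cj, map_mul, map_mul]
      exact h4

/-- The statement for Sylow subgroups. -/
theorem Fac.sylow {G : Type*} [Group G] [Finite G] {p : ℕ} [Fact p.Prime] (P : Sylow p G)
    (h : Fac (P : Subgroup G)) :
    (∀ P' P'' : Sylow p G, P' ≠ P → P'' ≠ P → ∃ x ∈ (P : Subgroup G),
      (P' : Subgroup G).map (MulAut.conj x).toMonoidHom = P'') ∧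
    (∀ P' : Sylow p G, P' ≠ P → ∃ x y : G, x ∈ (P : Subgroup G) ∧ (∀ z ∈ (P : Subgroup G), x * z = z * x) ∧
      y ∈ (P' : Subgroup G) ∧ (∀ z ∈ (P' : Subgroup G), y * z = z * y) ∧
      (P : Subgroup G).map (MulAut.conj (x * y * x)).toMonoidHom = P' ∧
      (P' : Subgroup G).map (MulAut.conj (x * y * x)).toMonoidHom = P) := by
  have key : ∀ P' : Sylow p G, ∃ g : G, (P' : Subgroup G) = cj g (P : Subgroup G) := by
    intro P'
    obtain ⟨g, hg⟩ := MulAction.exists_smul_eq G P P'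
    refine ⟨g, ?_⟩
    rw [← hg]
    rfl
  have key2 : ∀ P' : Sylow p G, P' ≠ P → (P' : Subgroup G) ≠ P := fun P' h1 h2 => h1 (Sylow.ext h2)
  constructor
  · intro P' P'' h1 h2
    obtain ⟨g, hg⟩ := key P'
    obtain ⟨k, hk⟩ := key P''
    have hg' := key2 P' h1
    have hk' := key2 P'' h2
    rw [hg] at hg'
    rw [hk] at hk'
    rw [hg, hk]
    exact (h g hg').1 k hk'
  · intro P' h1
    obtain ⟨g, hg⟩ := key P'
    have hg' := key2 P' h1
    rw [hg] at hg'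
    obtain ⟨x, hx, y, hy, h2, h3, h4, h5⟩ := (h g hg').2
    rw [hg]
    exact ⟨x, y, hx, h2, hy, h3, h4, h5⟩

end Cfsg.Agent.H910.PU
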