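import Cfsg.Agent.H910.PU.Fac
import Cfsg.Agent.H664.R1.U3Iso

/-!
# The rank one facts for `PSU(3,q)` (helper910, for S5258)
-/

set_option autoImplicit false

namespace Cfsg.Agent.H910.PU

open Subgroup Matrix Cfsg Cfsg.Agent.H664.R1 Cfsg.Agent.H664.R1.U3 Cfsg.Agent.LieRecognition.PSUThreeSylow

section

variable {F : Type*} [Field F] {σ : F →+* F} [hσ : Fact (∀ x, σ (σ x) = x)]

theorem un_comm (b a' b' : F) (h : b + σ b + 0 * σ 0 = 0) (h' : b' + σ b' + a' * σ a' = 0) :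
    un 0 b h * un a' b' h' = un a' b' h' * un 0 b h := by
  apply mat_inj
  rw [mat_mul, mat_mul, mat_un, mat_un]
  ext i j
  fin_cases i <;> fin_cases j <;> simp [Matrix.mul_apply, Fin.sum_univ_three, add_comm]

theorem wel'_mul_self : wel' σ * wel' σ = 1 := by
  apply mat_inj
  rw [mat_mul, mat_wel', mat_one]
  ext i j
  fin_cases i <;> fin_cases j <;> simp [Matrix.mul_apply, Fin.sum_univ_three]

theorem wel'_inv : (wel' σ)⁻¹ = wel' σ := inv_eq_of_mul_eq_one_left wel'_mul_self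

omit hσ in
theorem neg_inv_rel {b : F} (h : b + σ b + 0 * σ 0 = 0) : -b⁻¹ + σ (-b⁻¹) + 0 * σ 0 = 0 := by
  have h1 : σ b = -b := by
    rw [zero_mul, add_zero] at h
    exact (eq_neg_of_add_eq_zero_right h)
  rw [map_neg, map_inv₀, h1, inv_neg]
  simp

theorem triple {b : F} (hb : b ≠ 0) (h : b + σ b + 0 * σ 0 = 0) :
    (wel' σ)⁻¹ * (un 0 b h * (wel' σ * un 0 (-b⁻¹) (neg_inv_rel h) * (wel' σ)⁻¹) * un 0 b h) ∈ To σ := by
  rw [wel'_inv, mem_To]
  have e : mat σ (wel' σ * (un 0 b h * (wel' σ * un 0 (-b⁻¹) (neg_inv_rel h) * wel' σ) * un 0 b h)) =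
      !![-b⁻¹, 0, 0; 0, -1, 0; 0, 0, b] := by
    rw [mat_mul, mat_mul, mat_mul, mat_mul, mat_mul, mat_wel', mat_un, mat_un]
    ext i j
    fin_cases i <;> fin_cases j <;> simp [Matrix.mul_apply, Fin.sum_univ_three, hb]
  rw [e]
  refine ⟨⟨?_, ?_, ?_⟩, ?_, ?_, ?_⟩ <;> simp

theorem fac_US {b : F} (hb : b ≠ 0) (h : b + σ b + 0 * σ 0 = 0) : Fac (spS σ).U := by
  have hm : ∀ g : GUJ σ, g ∈ SUs σ → pr σ g ∈ S σ := fun g hg => ⟨g, hg, rfl⟩
  have hU : ∀ g : GUJ σ, g ∈ Un σ → pr σ g ∈ S σ := fun g hg => hm g (Un_le_SUs hg)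
  have key : ∀ (c : F) (hc : c + σ c + 0 * σ 0 = 0), ∀ z ∈ (spS σ).U,
      (⟨pr σ (un 0 c hc), hU _ (un_mem _ _ _)⟩ : S σ) * z = z * ⟨pr σ (un 0 c hc), hU _ (un_mem _ _ _)⟩ := by
    rintro c hc ⟨_, hzS⟩ ⟨u, hu, rfl⟩
    obtain ⟨a', b', h', rfl⟩ := exists_un hu
    apply Subtype.ext
    show pr σ (un 0 c hc) * pr σ (un a' b' h') = pr σ (un a' b' h') * pr σ (un 0 c hc)
    rw [← map_mul, ← map_mul, un_comm]
  refine Fac.of_split (spS σ) (x := ⟨pr σ (un 0 b h), hU _ (un_mem _ _ _)⟩)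
    (y := ⟨pr σ (un 0 (-b⁻¹) (neg_inv_rel h)), hU _ (un_mem _ _ _)⟩) ?_ (key b h) ?_ (key _ _) ?_ ?_
  · exact ⟨_, un_mem _ _ _, rfl⟩
  · exact ⟨_, un_mem _ _ _, rfl⟩
  · have e : (spS σ).w * (spS σ).w = 1 := by
      apply Subtype.ext
      show pr σ (wel' σ) * pr σ (wel' σ) = 1
      rw [← map_mul, wel'_mul_self, map_one]
    rw [e]
    exact (spS σ).B.one_mem
  · refine ⟨_, triple hb h, ?_⟩
    simp only [map_mul, map_inv]
    rfl

end

section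

variable {F : Type*} [Field F] [Fintype F] {q : ℕ} {σ : F →+* F} [hσ : Fact (∀ x, σ (σ x) = x)]

theorem exists_b (hF : Fintype.card F = q ^ 2) (hs : ∀ x, σ x = x ^ q) (hq : 2 ≤ q) :
    ∃ b : F, b ≠ 0 ∧ b + σ b + 0 * σ 0 = 0 := by
  have h1 := card_XS (σ := σ) hF hs
  have h2 : XS σ ≠ ⊥ := by
    intro h
    rw [h, Nat.card_eq_one_iff_unique.2 ⟨inferInstance, inferInstance⟩] at h1
    omega
  have h3 : ∃ x : S σ, x ∈ XS σ ∧ x ≠ 1 := by
    obtain ⟨a, ha⟩ := Subgroup.ne_bot_iff_exists_ne_one.1 h2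
    exact ⟨a.1, a.2, fun h => ha (Subtype.ext h)⟩
  obtain ⟨⟨x, hxS⟩, ⟨u, ⟨hu, hu0⟩, hux⟩, hx1⟩ := h3
  obtain ⟨a, b, h, rfl⟩ := exists_un hu
  rw [mat_un] at hu0
  have ha : a = 0 := by simpa using hu0
  subst ha
  refine ⟨b, ?_, h⟩
  rintro rfl
  apply hx1
  apply Subtype.ext
  have hux' : pr σ (un 0 0 h) = x := hux
  show x = 1
  rw [← hux']
  have e : un (σ := σ) 0 0 h = 1 := by
    apply mat_inj
    rw [mat_un, mat_one]
    ext i j
    fin_cases i <;> fin_cases j <;> simp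
  rw [e, map_one]

end

/-- **The rank one facts for `PSU(3,q)`.** -/
theorem fac_psu {F : Type*} [Field F] [Fintype F] {q : ℕ} (hF : Fintype.card F = q ^ 2) {p : ℕ} [hp : Fact p.Prime]
    {n : ℕ} (hn : 1 ≤ n) (hq : q = p ^ n) (P : Sylow p (Cfsg.PSU 3 F q)) : Fac (P : Subgroup (Cfsg.PSU 3 F q)) := by
  obtain ⟨σ, hσ, hs, ⟨e⟩⟩ := exists_iso hF
  have hq2 : 2 ≤ q := by
    rw [hq]
    exact hp.out.two_le.trans (Nat.le_self_pow (by omega) p)
  obtain ⟨b, hb, hb2⟩ := exists_b hF hs hq2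
  have h0 := fac_US hb hb2
  have hU := card_US (σ := σ) hF hs
  have hS := card_S (σ := σ) hF hs
  have hqp : p ∣ q := by rw [hq]; exact dvd_pow_self p (by omega)
  have hfin : Finite (S σ) := Finite.of_equiv _ e.toEquiv
  -- the index of `U`
  have hidx : ¬ p ∣ (spS σ).U.index := by
    intro hd
    have h1 := (spS σ).U.card_mul_index
    have h2 : (spS σ).U.index ∣ (q ^ 3 + 1) * (q ^ 2 - 1) := by
      have h3 : Nat.card (spS σ).U * (spS σ).U.index ∣ q ^ 3 * ((q ^ 3 + 1) * (q ^ 2 - 1)) := by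
        rw [h1]
        have e2 : q ^ 3 * ((q ^ 3 + 1) * (q ^ 2 - 1)) = (q ^ 3 + 1) * (q ^ 3 * (q ^ 2 - 1)) := by ring
        rw [e2]
        exact hS
      rw [hU] at h3
      exact Nat.dvd_of_mul_dvd_mul_left (by positivity) h3
    have h4 := hd.trans h2
    rcases hp.out.dvd_mul.1 h4 with h5 | h5
    · have h6 : p ∣ q ^ 3 := dvd_pow hqp (by norm_num)
      have h7 := (Nat.dvd_add_right h6).1 h5
      exact hp.out.one_lt.ne' (Nat.dvd_one.1 h7)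
    · have h6 : p ∣ q ^ 2 := dvd_pow hqp (by norm_num)
      have h8 : 1 ≤ q ^ 2 := Nat.one_le_pow _ _ (by omega)
      have h7 : p ∣ q ^ 2 - (q ^ 2 - 1) := Nat.dvd_sub h6 h5
      rw [Nat.sub_sub_self h8] at h7
      exact hp.out.one_lt.ne' (Nat.dvd_one.1 h7)
  have hpU : IsPGroup p (spS σ).U := by
    rw [IsPGroup.iff_card]
    exact ⟨n * 3, by rw [hU, hq, ← pow_mul]⟩
  let Q : Sylow p (S σ) := hpU.toSylow hidx
  have hQ : (Q : Subgroup (S σ)) = (spS σ).U := rfl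
  have hfacQ : ∀ Q' : Sylow p (S σ), Fac (Q' : Subgroup (S σ)) := by
    intro Q'
    obtain ⟨g, hg⟩ := MulAction.exists_smul_eq (S σ) Q Q'
    have h1 : (Q' : Subgroup (S σ)) = cj g (spS σ).U := by
      rw [← hg]
      rfl
    rw [h1]
    exact h0.conj g
  -- transport
  have h1 := hfacQ (P.mapSurjective (f := e.toMonoidHom) e.surjective)
  have h2 : ((P : Subgroup (Cfsg.PSU 3 F q)).map e.toMonoidHom).map e.symm.toMonoidHom = P := by
    rw [Subgroup.map_map]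
    have : e.symm.toMonoidHom.comp e.toMonoidHom = MonoidHom.id _ := by
      ext x
      simp
    rw [this, Subgroup.map_id]
  rw [← h2]
  exact Fac.map e.symm.toMonoidHom h1 fun g => ⟨e g, by simp⟩

end Cfsg.Agent.H910.PU
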